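import Groth.Agent.L27.SGA1.ConnectedFibres
import Groth.Prelude.Def_FEt
import Mathlib.AlgebraicGeometry.Morphisms.Separated
import Mathlib.AlgebraicGeometry.Morphisms.Finite

/-! # Full faithfulness of restriction of finite etale covers -/

universe u

open CategoryTheory CategoryTheory.Limits AlgebraicGeometry

set_option backward.isDefEq.respectTransparency.types false

namespace Groth.L27.SGA1Conn

variable {X Y : Scheme.{u}} (f : X ⟶ Y)

theorem restrict_map_fst {V U : FEt.Cat Y} (a : V ⟶ U) :
    ((FEt.restrict f).map a).left ≫ pullback.fst U.hom f = pullback.fst V.hom f ≫ a.left :=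
  pullback.lift_fst _ _ _

/-- Restriction along a universally submersive morphism with connected geometric fibres. -/
theorem full_faithful_restrict (hf : SGA1.UnivSubmersive f)
    (hconn : ∀ (K : Type u) [Field K] [IsAlgClosed K] (ξ : Spec (CommRingCat.of K) ⟶ Y),
      ConnectedSpace ↑(pullback f ξ)) :
    (FEt.restrict f).Full ∧ (FEt.restrict f).Faithful := by
  refine ⟨⟨fun {V U} ψ => ?_⟩, ⟨fun {V U} a b h => ?_⟩⟩
  · have : AlgebraicGeometry.Etale U.hom := U.prop.2
    have ha : (ψ.left ≫ pullback.fst U.hom f) ≫ U.hom = pullback.fst V.hom f ≫ V.hom :=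
      (Category.assoc _ _ _).trans ((congrArg (ψ.left ≫ ·) pullback.condition).trans
        ((Category.assoc _ _ _).symm.trans ((congrArg (· ≫ f) (MorphismProperty.Over.w ψ)).trans
          pullback.condition.symm)))
    obtain ⟨u, ⟨hu1, hu2⟩, -⟩ := L27.TopInv.existsUnique_hom f hf V.hom U.hom _ ha
      (compat f hconn V.hom U.hom _ ha)
    exact ⟨MorphismProperty.Over.homMk u hu1, MorphismProperty.Over.Hom.ext (pullback.hom_ext
      ((pullback.lift_fst _ _ _).trans hu2.symm)
      ((pullback.lift_snd _ _ _).trans (MorphismProperty.Over.w ψ).symm))⟩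
  · have : AlgebraicGeometry.Etale U.hom := U.prop.2
    have ha : (pullback.fst V.hom f ≫ a.left) ≫ U.hom = pullback.fst V.hom f ≫ V.hom := by
      rw [Category.assoc, MorphismProperty.Over.w a]
    obtain ⟨u, -, hu⟩ := L27.TopInv.existsUnique_hom f hf V.hom U.hom _ ha
      (compat f hconn V.hom U.hom _ ha)
    refine MorphismProperty.Over.Hom.ext ((hu a.left ⟨MorphismProperty.Over.w a, rfl⟩).trans
      (hu b.left ⟨MorphismProperty.Over.w b, ?_⟩).symm)
    exact (restrict_map_fst f a).symm.trans ((congrArg (fun m => m.left ≫ pullback.fst U.hom f) h).trans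
      (restrict_map_fst f b))

/-- The locus where two maps of finite etale covers agree is clopen. -/
theorem exists_clopen {V U : FEt.Cat Y} (a b : V ⟶ U) :
    ∃ C : Set V.left, IsClopen C ∧ (C = Set.univ → a = b) ∧
      ∀ (T : Scheme.{u}) (j : T ⟶ V.left), j ≫ a.left = j ≫ b.left → Set.range j.base ⊆ C := by
  have : IsFinite U.hom := U.prop.1
  have : AlgebraicGeometry.Etale U.hom := U.prop.2
  have hab : a.left ≫ U.hom = b.left ≫ U.hom := (MorphismProperty.Over.w a).trans (MorphismProperty.Over.w b).symm
  let e := pullback.lift a.left b.left hab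
  let s := pullback.snd (pullback.diagonal U.hom) e
  have : IsClosedImmersion (pullback.diagonal U.hom) := IsSeparated.isClosedImmersion_diagonal
  have : IsOpenImmersion s := inferInstance
  have : IsClosedImmersion s := inferInstance
  have hs : s ≫ a.left = s ≫ b.left := by
    have c := pullback.condition (f := pullback.diagonal U.hom) (g := e)
    have c1 := congrArg (· ≫ pullback.fst U.hom U.hom) c
    have c2 := congrArg (· ≫ pullback.snd U.hom U.hom) c
    simp only [e, Category.assoc, pullback.diagonal_fst, pullback.diagonal_snd, Category.comp_id,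
      pullback.lift_fst, pullback.lift_snd] at c1 c2
    exact c1.symm.trans c2
  refine ⟨Set.range s.base, ⟨s.isClosedEmbedding.isClosed_range, s.isOpenEmbedding.isOpen_range⟩,
    fun h => ?_, fun T j hj => ?_⟩
  · have : Surjective s := ⟨Set.range_eq_univ.1 h⟩
    exact MorphismProperty.Over.Hom.ext (L27.TopInv.eq_of_surjective U.hom s hab hs)
  · let l : T ⟶ pullback (pullback.diagonal U.hom) e := pullback.lift (j ≫ a.left) j (by
      apply pullback.hom_ext
      · simp only [e, Category.assoc, pullback.diagonal_fst, Category.comp_id, pullback.lift_fst]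
      · simp only [e, Category.assoc, pullback.diagonal_snd, Category.comp_id, pullback.lift_snd]
        exact hj)
    rintro _ ⟨t, rfl⟩
    exact ⟨l.base t, (Scheme.Hom.comp_apply _ _ _).symm.trans
      (congrArg (fun m : T ⟶ V.left => m.base t) (pullback.lift_snd _ _ _))⟩

theorem range_subset_of_map_eq {V U : FEt.Cat Y} {a b : V ⟶ U} (h : (FEt.restrict f).map a = (FEt.restrict f).map b) :
    pullback.fst V.hom f ≫ a.left = pullback.fst V.hom f ≫ b.left :=
  (restrict_map_fst f a).symm.trans ((congrArg (fun m => m.left ≫ pullback.fst U.hom f) h).trans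
    (restrict_map_fst f b))

theorem faithful_of_denseRange (h : DenseRange f.base) : (FEt.restrict f).Faithful := by
  refine ⟨fun {V U} a b hab => ?_⟩
  obtain ⟨C, hC, hu, hr⟩ := exists_clopen a b
  have := hr _ _ (range_subset_of_map_eq f hab)
  have hd : Dense (Set.range (pullback.fst V.hom f).base) := by
    have : AlgebraicGeometry.Etale V.hom := V.prop.2
    rw [Scheme.Pullback.range_fst]
    exact h.preimage V.hom.isOpenMap
  exact hu (hC.1.closure_eq ▸ (hd.mono this).closure_eq)

theorem faithful_of_meets_components (h : ∀ y : Y, (connectedComponent y ∩ Set.range f.base).Nonempty) :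
    (FEt.restrict f).Faithful := by
  refine ⟨fun {V U} a b hab => ?_⟩
  obtain ⟨C, hC, hu, hr⟩ := exists_clopen a b
  have hsub := hr _ _ (range_subset_of_map_eq f hab)
  rw [Scheme.Pullback.range_fst] at hsub
  have : AlgebraicGeometry.Etale V.hom := V.prop.2
  have : IsFinite V.hom := V.prop.1
  refine hu (Set.eq_univ_of_forall fun v => ?_)
  by_contra hv
  let D := V.hom.base '' Cᶜ
  have hD : IsClopen D := ⟨V.hom.isClosedMap _ hC.2.isClosed_compl, V.hom.isOpenMap _ hC.1.isOpen_compl⟩
  obtain ⟨y, hy, hyf⟩ := h (V.hom.base v)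
  obtain ⟨w, hw, rfl⟩ := hD.connectedComponent_subset (show V.hom.base v ∈ D from ⟨v, hv, rfl⟩) hy
  exact hw (hsub hyf)

end Groth.L27.SGA1Conn
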