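import Groth.Agent.L27.SGA1.ConnectedFibres
import Groth.Agent.L02.SepClosedTensor
import Mathlib.AlgebraicGeometry.Pullbacks
import Mathlib.AlgebraicGeometry.Morphisms.Flat
import Mathlib.RingTheory.Spectrum.Prime.Topology
import Mathlib.FieldTheory.IsAlgClosed.AlgebraicClosure

/-! # Connectedness and extensions of the ground field -/

universe u

open CategoryTheory CategoryTheory.Limits AlgebraicGeometry TensorProduct

set_option backward.isDefEq.respectTransparency.types false

namespace Groth.L27.SGA1Conn

/-- Geometric fibres of a field extension of a separably closed field are connected. -/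
theorem connectedSpace_fibre {k K Ω : Type u} [Field k] [IsSepClosed k] [Field K] [Algebra k K] [Field Ω]
    {T : Scheme.{u}} (a : T ⟶ Spec (CommRingCat.of k)) (s : Spec (CommRingCat.of Ω) ⟶ T) :
    ConnectedSpace ↥(pullback (pullback.fst a (Spec.map (CommRingCat.ofHom (algebraMap k K)))) s) := by
  let m := Spec.map (CommRingCat.ofHom (algebraMap k K))
  obtain ⟨φ, hφ⟩ : ∃ φ, Spec.map φ = s ≫ a := ⟨_, Spec.map_preimage _⟩
  letI : Algebra k Ω := φ.hom.toAlgebra
  have hp : (nilradical (Ω ⊗[k] K)).IsPrime := Groth.L02.SepClosedTensor.isPrime_nilradical_tensor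
    (by rw [nilradical_eq_zero]; exact Ideal.isPrime_bot) (by rw [nilradical_eq_zero]; exact Ideal.isPrime_bot)
  have : IrreducibleSpace (PrimeSpectrum (Ω ⊗[k] K)) := PrimeSpectrum.irreducibleSpace_iff_isPrime_nilradical.2 hp
  have : ConnectedSpace ↥(Spec (CommRingCat.of (Ω ⊗[k] K))) := inferInstanceAs (ConnectedSpace (PrimeSpectrum (Ω ⊗[k] K)))
  let e : pullback (pullback.fst a m) s ≅ Spec (CommRingCat.of (Ω ⊗[k] K)) :=
    pullbackSymmetry _ _ ≪≫ pullbackRightPullbackFstIso a m s ≪≫ pullback.congrHom hφ.symm rfl ≪≫ pullbackSpecIso k Ω K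
  exact e.inv.homeomorph.surjective.connectedSpace e.inv.continuous

theorem univSubmersive_fieldExt {k K : Type u} [Field k] [Field K] [Algebra k K]
    {T : Scheme.{u}} (a : T ⟶ Spec (CommRingCat.of k)) :
    SGA1.UnivSubmersive (pullback.fst a (Spec.map (CommRingCat.ofHom (algebraMap k K)))) := by
  let m := Spec.map (CommRingCat.ofHom (algebraMap k K))
  have : Flat m := (HasRingHomProperty.Spec_iff (P := @Flat)).2 (RingHom.flat_algebraMap_iff.2 inferInstance)
  have : Surjective m := ⟨fun x => ⟨default, Subsingleton.elim (α := Spec (CommRingCat.of k)) _ _⟩⟩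
  have : Flat (pullback.fst a m) := MorphismProperty.pullback_fst _ _ inferInstance
  have : Surjective (pullback.fst a m) := MorphismProperty.pullback_fst _ _ inferInstance
  have : QuasiCompact (pullback.fst a m) := MorphismProperty.pullback_fst _ _ inferInstance
  exact L27.TopInv.univSubmersive_of_fpqc _

theorem flat_toField {k : Type u} [Field k] {T : Scheme.{u}} (p : T ⟶ Spec (CommRingCat.of k)) : Flat p := by
  rw [HasRingHomProperty.iff_appLE (P := @Flat)]
  intro U V e
  rcases Set.eq_empty_or_nonempty (U.1 : Set (Spec (CommRingCat.of k))) with h | ⟨x, hx⟩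
  · have : (U.1 : (Spec (CommRingCat.of k)).Opens) = ⊥ := TopologicalSpace.Opens.ext h
    have : Subsingleton Γ(Spec (CommRingCat.of k), U.1) := by rw [this]; infer_instance
    have : Subsingleton Γ(T, V.1) := RingHom.codomain_trivial (p.appLE U.1 V.1 e).hom
    exact RingHom.Flat.of_bijective ⟨fun a b _ => Subsingleton.elim a b, fun b => ⟨0, Subsingleton.elim _ _⟩⟩
  · have hU : (U.1 : (Spec (CommRingCat.of k)).Opens) = ⊤ :=
      TopologicalSpace.Opens.ext (Set.eq_univ_of_forall fun y => Subsingleton.elim x y ▸ hx)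
    refine RingHom.Flat.of_isField ?_ _
    rw [hU]
    exact (Scheme.ΓSpecIso (CommRingCat.of k)).commRingCatIsoToRingEquiv.toMulEquiv.isField
      (Field.toIsField k)

/-- A scheme with connected base change to an algebraic closure is geometrically connected. -/
theorem connectedSpace_of_algClosure {k : Type u} [Field k] {X : Scheme.{u}} (f : X ⟶ Spec (CommRingCat.of k))
    [ConnectedSpace ↥(pullback f (Spec.map (CommRingCat.ofHom (algebraMap k (AlgebraicClosure k)))))]
    (K : Type u) [Field K] [IsAlgClosed K] (ξ : Spec (CommRingCat.of K) ⟶ Spec (CommRingCat.of k)) :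
    ConnectedSpace ↥(pullback f ξ) := by
  obtain ⟨φ, rfl⟩ : ∃ φ, Spec.map φ = ξ := ⟨_, Spec.map_preimage _⟩
  letI : Algebra k K := φ.hom.toAlgebra
  let j : AlgebraicClosure k →ₐ[k] K := IsAlgClosed.lift
  letI : Algebra (AlgebraicClosure k) K := j.toRingHom.toAlgebra
  let m₀ := Spec.map (CommRingCat.ofHom (algebraMap k (AlgebraicClosure k)))
  let mj := Spec.map (CommRingCat.ofHom (algebraMap (AlgebraicClosure k) K))
  have hc : ConnectedSpace ↥(pullback (pullback.snd f m₀) mj) :=
    connectedSpace (pullback.fst (pullback.snd f m₀) mj) (univSubmersive_fieldExt _)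
      fun Ω _ _ s => connectedSpace_fibre _ s
  have hξ : mj ≫ m₀ = Spec.map φ := by
    rw [← Spec.map_comp]
    congr 1
    ext x
    exact j.commutes x
  let e : pullback (pullback.snd f m₀) mj ≅ pullback f (Spec.map φ) :=
    pullbackLeftPullbackSndIso f m₀ mj ≪≫ pullback.congrHom rfl hξ
  exact e.hom.homeomorph.surjective.connectedSpace e.hom.continuous

end Groth.L27.SGA1Conn
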