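import Groth.Prelude.Def_SGA1
import Groth.Agent.L20.ThickeningTopology
import Mathlib.CategoryTheory.MorphismProperty.Descent
import Mathlib.AlgebraicGeometry.Morphisms.Proper

/-! # Descent of topological properties along universally submersive morphisms -/

universe u

open CategoryTheory CategoryTheory.Limits AlgebraicGeometry

namespace Groth.L27.SubDesc

instance : (SGA1.UnivSubmersive.{u}).IsStableUnderBaseChange :=
  inferInstanceAs (MorphismProperty.universally _).IsStableUnderBaseChange

variable {A X Y Z : Scheme.{u}} {fst : A ⟶ X} {snd : A ⟶ Y} {f : X ⟶ Z} {g : Y ⟶ Z}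

theorem isQuotientMap {X Z : Scheme.{u}} {f : X ⟶ Z} (hf : SGA1.UnivSubmersive f) :
    Topology.IsQuotientMap f.base :=
  hf _ _ f IsPullback.of_id_snd

theorem image_eq (h : IsPullback fst snd f g) (s : Set Y) :
    fst.base '' (snd.base ⁻¹' s) = f.base ⁻¹' (g.base '' s) :=
  Scheme.image_preimage_eq_of_isPullback h.flip s

theorem isOpenMap (h : IsPullback fst snd f g) (hf : SGA1.UnivSubmersive f)
    (ho : IsOpenMap fst.base) : IsOpenMap g.base := fun U hU => by
  rw [← (isQuotientMap hf).isOpen_preimage, ← image_eq h]
  exact ho _ (hU.preimage snd.continuous)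

theorem isClosedMap (h : IsPullback fst snd f g) (hf : SGA1.UnivSubmersive f)
    (ho : IsClosedMap fst.base) : IsClosedMap g.base := fun U hU => by
  rw [← (isQuotientMap hf).isClosed_preimage, ← image_eq h]
  exact ho _ (hU.preimage snd.continuous)

theorem descendsAlong_universally (P : MorphismProperty Scheme.{u})
    (hP : ∀ {A X Y Z : Scheme.{u}} {fst : A ⟶ X} {snd : A ⟶ Y} {f : X ⟶ Z} {g : Y ⟶ Z},
      IsPullback fst snd f g → SGA1.UnivSubmersive f → P fst → P g) :
    P.universally.DescendsAlong SGA1.UnivSubmersive := by
  refine ⟨fun {A X Y Z fst snd f g} h hf hfst => ?_⟩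
  intro Y' Z' i₁ i₂ g' sq
  have hp : SGA1.UnivSubmersive (pullback.snd f i₂) := MorphismProperty.pullback_snd _ _ hf
  have hB := IsPullback.of_hasPullback g' (pullback.snd f i₂)
  have hbig := hB.flip.paste_vert sq
  rw [← pullback.condition] at hbig
  let k : pullback g' (pullback.snd f i₂) ⟶ A :=
    h.lift (pullback.snd g' (pullback.snd f i₂) ≫ pullback.fst f i₂) (pullback.fst _ _ ≫ i₁)
      ((Category.assoc _ _ _).trans hbig.w)
  have hk : IsPullback (pullback.snd g' (pullback.snd f i₂)) k (pullback.fst f i₂) fst := by
    refine IsPullback.of_bot ?_ (h.lift_fst _ _ _).symm h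
    rw [show k ≫ snd = pullback.fst _ _ ≫ i₁ from h.lift_snd _ _ _]
    exact hbig
  exact hP hB.flip hp (hfst _ _ _ hk)

instance universallyClosed_descendsAlong :
    MorphismProperty.DescendsAlong @UniversallyClosed SGA1.UnivSubmersive.{u} := by
  rw [universallyClosed_eq]
  exact descendsAlong_universally _ fun h hf ho => isClosedMap h hf ho

instance universallyOpen_descendsAlong :
    MorphismProperty.DescendsAlong @UniversallyOpen SGA1.UnivSubmersive.{u} := by
  rw [UniversallyOpen.eq]
  exact descendsAlong_universally _ fun h hf ho => isOpenMap h hf ho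

theorem isSeparated (h : IsPullback fst snd f g) (hf : SGA1.UnivSubmersive f)
    (hs : IsSeparated fst) : IsSeparated g := by
  have h1 : (MorphismProperty.diagonal @UniversallyClosed) fst := by
    have : IsClosedImmersion (pullback.diagonal fst) := IsSeparated.isClosedImmersion_diagonal
    exact (inferInstance : UniversallyClosed (pullback.diagonal fst))
  have := universallyClosed_respectsIso.{u}
  have i1 := universallyClosed_descendsAlong.{u}
  have i2 : (SGA1.UnivSubmersive.{u}).IsStableUnderBaseChange := inferInstance
  have : (MorphismProperty.diagonal @UniversallyClosed.{u}).DescendsAlong SGA1.UnivSubmersive.{u} := by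
    exact MorphismProperty.instDescendsAlongDiagonalOfRespectsIsoOfIsStableUnderBaseChange @UniversallyClosed.{u} SGA1.UnivSubmersive.{u}
  have : UniversallyClosed (pullback.diagonal g) :=
    MorphismProperty.DescendsAlong.of_isPullback (P := MorphismProperty.diagonal @UniversallyClosed) h hf h1
  exact ⟨.of_isPreimmersion _ (pullback.diagonal g).isClosedMap.isClosed_range⟩

end Groth.L27.SubDesc
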