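import Groth.Agent.L27.TopInv.Hom
import Groth.Agent.L27.EtSite.Points
import Groth.Agent.L27.EtSite.ConnFibres
import Mathlib.Topology.Connected.Clopen

/-! # Morphisms with geometrically connected fibres -/

universe u

open CategoryTheory CategoryTheory.Limits AlgebraicGeometry

set_option backward.isDefEq.respectTransparency.types false

namespace Groth.L27.SGA1Conn

variable {S' S : Scheme.{u}}

theorem field_base_eq {Ω : Type u} [Field Ω] {T : Scheme.{u}} (a : Spec (CommRingCat.of Ω) ⟶ T)
    (t : Spec (CommRingCat.of Ω)) : a.base t = a.base default :=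
  congrArg a.base (Subsingleton.elim (α := Spec (CommRingCat.of Ω)) _ _)

/-- Every morphism from a connected scheme over an algebraically closed point to an etale scheme is constant. -/
theorem comp_eq_of_connected {Ω : Type u} [Field Ω] [IsAlgClosed Ω] {Z E : Scheme.{u}}
    [ConnectedSpace Z] (π : E ⟶ Spec (CommRingCat.of Ω)) [AlgebraicGeometry.Etale π] (k : Z ⟶ E)
    (σ τ : Spec (CommRingCat.of Ω) ⟶ Z) (hσ : σ ≫ k ≫ π = 𝟙 _) (hτ : τ ≫ k ≫ π = 𝟙 _) :
    σ ≫ k = τ ≫ k := by
  have hs : ((σ ≫ k) ≫ π) = 𝟙 _ := (Category.assoc _ _ _).trans hσ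
  have := L27.TopInv.isOpenImmersion_section π (σ ≫ k) hs
  have hsingle : ∀ e : E, IsOpen ({e} : Set E) := fun e => by
    obtain ⟨y, hy⟩ := L27.EtSite.exists_fiber (𝟙 (Spec (CommRingCat.of Ω))) (Scheme.Etale.mk π) e
      (Subsingleton.elim (α := Spec (CommRingCat.of Ω)) _ _)
    let yl : Spec (CommRingCat.of Ω) ⟶ E := y.left
    have := L27.TopInv.isOpenImmersion_section π yl (Over.w y)
    have : Set.range yl.base = {e} := by
      refine Set.eq_singleton_iff_unique_mem.2 ⟨⟨default, hy⟩, ?_⟩
      rintro _ ⟨t, rfl⟩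
      exact (field_base_eq yl t).trans hy
    exact this ▸ yl.isOpenEmbedding.isOpen_range
  have : DiscreteTopology E := discreteTopology_iff_isOpen_singleton.2 hsingle
  have hpt : (τ ≫ k).base default = (σ ≫ k).base default :=
    (Scheme.Hom.comp_apply _ _ _).trans
      ((PreconnectedSpace.constant inferInstance k.continuous).trans (Scheme.Hom.comp_apply _ _ _).symm)
  have hr : Set.range (τ ≫ k) ⊆ Set.range (σ ≫ k) := by
    rintro _ ⟨t, rfl⟩
    exact ⟨default, hpt.symm.trans (field_base_eq (τ ≫ k) t).symm⟩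
  let l := IsOpenImmersion.lift (σ ≫ k) (τ ≫ k) hr
  have hl : l ≫ σ ≫ k = τ ≫ k := IsOpenImmersion.lift_fac _ _ _
  have hl1 : l = 𝟙 _ := by
    have e := congrArg (· ≫ π) hl
    simp only [Category.assoc] at e
    rw [hσ, hτ, Category.comp_id] at e
    exact e
  rw [← hl, hl1, Category.id_comp]

variable (g : S' ⟶ S) (hg : SGA1.UnivSubmersive g)
  (hconn : ∀ (K : Type u) [Field K] [IsAlgClosed K] (ξ : Spec (CommRingCat.of K) ⟶ S),
    ConnectedSpace ↑(pullback g ξ))

include hconn in
theorem compat {X Y : Scheme.{u}} (p : X ⟶ S) (q : Y ⟶ S) [AlgebraicGeometry.Etale q]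
    (a : pullback p g ⟶ Y) (ha : a ≫ q = pullback.fst p g ≫ p) :
    pullback.fst (pullback.fst p g) (pullback.fst p g) ≫ a =
      pullback.snd (pullback.fst p g) (pullback.fst p g) ≫ a := by
  let pr := pullback.fst p g
  let u := pullback.fst pr pr ≫ a
  let v := pullback.snd pr pr ≫ a
  have huv : u ≫ q = v ≫ q := by
    refine (Category.assoc _ _ _).trans ?_
    refine Eq.trans ?_ (Category.assoc _ _ _).symm
    rw [ha, ← Category.assoc, ← Category.assoc]
    exact congrArg (· ≫ p) pullback.condition
  let e := pullback.lift u v huv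
  have : Surjective (pullback.snd (pullback.diagonal q) e) := ⟨fun w => by
    obtain ⟨Ω, _, _, ξ, rfl⟩ := L27.EtSite.CF.exists_algClosed_point w
    let x : Spec (CommRingCat.of Ω) ⟶ X := ξ ≫ pullback.fst pr pr ≫ pr
    have := hconn Ω (x ≫ p)
    let ι : pullback g (x ≫ p) ⟶ pullback p g :=
      pullback.lift (pullback.snd _ _ ≫ x) (pullback.fst _ _) ((Category.assoc _ _ _).trans pullback.condition.symm)
    let E := pullback q (x ≫ p)
    let k : pullback g (x ≫ p) ⟶ E := pullback.lift (ι ≫ a) (pullback.snd _ _)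
      ((Category.assoc _ _ _).trans ((congrArg (ι ≫ ·) ha).trans ((Category.assoc _ _ _).symm.trans
        ((congrArg (· ≫ p) (pullback.lift_fst _ _ _)).trans (Category.assoc _ _ _)))))
    let sec : ∀ ζ : Spec (CommRingCat.of Ω) ⟶ pullback p g, (ζ ≫ pr = x) →
        (Spec (CommRingCat.of Ω) ⟶ pullback g (x ≫ p)) := fun ζ hζ =>
      pullback.lift (ζ ≫ pullback.snd p g) (𝟙 _) ((Category.assoc _ _ _).trans
        ((congrArg (ζ ≫ ·) pullback.condition.symm).trans ((Category.assoc _ _ _).symm.trans
          ((congrArg (· ≫ p) hζ).trans (Category.id_comp _).symm))))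
    have hsec : ∀ ζ hζ, sec ζ hζ ≫ k ≫ pullback.snd q (x ≫ p) = 𝟙 _ := fun ζ hζ => by
      rw [pullback.lift_snd, pullback.lift_snd]
    have hι : ∀ ζ hζ, sec ζ hζ ≫ k ≫ pullback.fst q (x ≫ p) = ζ ≫ a := fun ζ hζ => by
      rw [pullback.lift_fst, ← Category.assoc]
      congr 1
      apply pullback.hom_ext
      · rw [Category.assoc, pullback.lift_fst, ← Category.assoc, pullback.lift_snd, Category.id_comp, ← hζ]
      · rw [Category.assoc, pullback.lift_snd, pullback.lift_fst]
    have h1 : (ξ ≫ pullback.fst pr pr) ≫ pr = x := Category.assoc _ _ _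
    have h2 : (ξ ≫ pullback.snd pr pr) ≫ pr = x :=
      (Category.assoc _ _ _).trans (congrArg (ξ ≫ ·) pullback.condition.symm)
    have hk := comp_eq_of_connected (pullback.snd q (x ≫ p)) k (sec _ h1) (sec _ h2) (hsec _ h1) (hsec _ h2)
    have hfin : ξ ≫ u = ξ ≫ v := by
      have := congrArg (· ≫ pullback.fst q (x ≫ p)) hk
      simp only [Category.assoc] at this
      rw [hι _ h1, hι _ h2] at this
      exact ((Category.assoc _ _ _).symm.trans this).trans (Category.assoc _ _ _)
    let l : Spec (CommRingCat.of Ω) ⟶ pullback (pullback.diagonal q) e :=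
      pullback.lift (ξ ≫ u) ξ (by
        apply pullback.hom_ext
        · simp only [e, Category.assoc, pullback.diagonal_fst, Category.comp_id, pullback.lift_fst]
        · simp only [e, Category.assoc, pullback.diagonal_snd, Category.comp_id, pullback.lift_snd]
          exact hfin)
    exact ⟨l.base default, (Scheme.Hom.comp_apply _ _ _).symm.trans
      (congrArg (fun m : Spec (CommRingCat.of Ω) ⟶ pullback pr pr => m.base default) (pullback.lift_snd _ _ _))⟩⟩
  refine L27.TopInv.eq_of_surjective q (pullback.snd (pullback.diagonal q) e) huv ?_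
  have c := pullback.condition (f := pullback.diagonal q) (g := e)
  have c1 := congrArg (· ≫ pullback.fst q q) c
  have c2 := congrArg (· ≫ pullback.snd q q) c
  simp only [e, Category.assoc, pullback.diagonal_fst, pullback.diagonal_snd, Category.comp_id,
    pullback.lift_fst, pullback.lift_snd] at c1 c2
  exact c1.symm.trans c2

include hg hconn in
theorem connectedSpace [ConnectedSpace S] : ConnectedSpace S' := by
  have hq : Topology.IsQuotientMap g.base := hg _ _ g IsPullback.of_id_snd
  have hfib : ∀ s : S, _root_.IsPreconnected (g.base ⁻¹' {s}) := fun s => by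
    obtain ⟨Ω, _, _, η, rfl⟩ := L27.EtSite.CF.exists_algClosed_point s
    have := hconn Ω η
    have : g.base ⁻¹' {η.base default} = Set.range (pullback.fst g η).base := by
      rw [Scheme.Pullback.range_fst]
      congr 1
      refine (Set.eq_singleton_iff_unique_mem.2 ⟨Set.mem_range_self default, ?_⟩).symm
      rintro _ ⟨t, rfl⟩
      exact field_base_eq η t
    rw [this]
    exact isPreconnected_range (pullback.fst g η).continuous
  obtain ⟨x₀, -⟩ := hq.surjective (Classical.arbitrary S)
  refine { toPreconnectedSpace := ?_, toNonempty := ⟨x₀⟩ }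
  refine preconnectedSpace_iff_clopen.2 fun U hU => ?_
  have hsat : g.base ⁻¹' (g.base '' U) = U := by
    refine Set.Subset.antisymm ?_ (Set.subset_preimage_image _ _)
    rintro x ⟨y, hy, hxy⟩
    exact (hfib (g.base y)).subset_isClopen hU ⟨y, rfl, hy⟩ (show g.base x = g.base y from hxy.symm)
  have hV : IsClopen (g.base '' U) := ⟨hq.isClosed_preimage.1 (hsat.symm ▸ hU.1), hq.isOpen_preimage.1 (hsat.symm ▸ hU.2)⟩
  rcases isClopen_iff.1 hV with h | h
  · exact .inl (hsat ▸ h ▸ Set.preimage_empty)
  · exact .inr (hsat ▸ h ▸ Set.preimage_univ)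

end Groth.L27.SGA1Conn
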